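import Cfsg.Agent.OneClass.Core
import Mathlib.GroupTheory.FiniteAbelian.Basic
import Mathlib.Data.ZMod.Basic

/-!
# Assembling: solvable groups with one class of involutions
-/

set_option autoImplicit false
set_option linter.style.haveILetI false
set_option linter.unusedSectionVars false

namespace CfsgLib.OneClass

open Subgroup CfsgLib.Solvable
open scoped commutatorElement

universe u

/-- A finite abelian `2`-group with automorphisms transitive on its involutions is homocyclic. -/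
theorem homocyclic_of_transitive {A : Type u} [CommGroup A] [Finite A] (hA : IsPGroup 2 A)
    (htr : ∀ x y : A, x ≠ 1 → x ^ 2 = 1 → y ≠ 1 → y ^ 2 = 1 → ∃ a : MulAut A, a x = y) :
    ∃ m r : ℕ, Nonempty (A ≃* (Fin r → Multiplicative (ZMod (2 ^ m)))) := by
  classical
  obtain ⟨ι, hι, n, hn, ⟨θ⟩⟩ := CommGroup.equiv_prod_multiplicative_zmod_of_finite A
  obtain ⟨M, hM⟩ := IsPGroup.iff_card.1 hA
  have hcard : Nat.card A = ∏ i, n i := by
    rw [Nat.card_congr θ.toEquiv, Nat.card_pi]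
    exact Finset.prod_congr rfl fun i _ => by
      rw [Nat.card_congr Multiplicative.toAdd, Nat.card_zmod]
  have hpow : ∀ i, ∃ e, n i = 2 ^ (e + 1) := by
    intro i
    have hd : n i ∣ 2 ^ M := hM ▸ hcard ▸ Finset.dvd_prod_of_mem n (Finset.mem_univ i)
    obtain ⟨e, -, he⟩ := (Nat.dvd_prime_pow Nat.prime_two).1 hd
    rcases e with _ | e
    · exact absurd he (by have := hn i; omega)
    · exact ⟨e, he⟩
  choose e he using hpow
  -- the involution of a coordinate
  let z : ∀ i, Multiplicative (ZMod (n i)) := fun i => Multiplicative.ofAdd ((2 : ZMod (n i)) ^ e i)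
  have hz1 : ∀ i, z i ≠ 1 := by
    intro i h
    have h1 : ((2 ^ e i : ℕ) : ZMod (n i)) = 0 := by
      push_cast
      exact congrArg Multiplicative.toAdd h
    rw [ZMod.natCast_eq_zero_iff, he] at h1
    have := (Nat.pow_dvd_pow_iff_le_right (le_refl 2)).1 h1
    omega
  have hz2 : ∀ i, z i ^ 2 = 1 := by
    intro i
    apply Multiplicative.toAdd.injective
    show (2 : ℕ) • ((2 : ZMod (n i)) ^ e i) = 0
    rw [nsmul_eq_mul, Nat.cast_ofNat, ← pow_succ']
    have := ZMod.natCast_self (n i)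
    rw [show ((n i : ℕ) : ZMod (n i)) = ((2 ^ (e i + 1) : ℕ) : ZMod (n i)) by rw [← he]] at this
    exact_mod_cast this
  have hle : ∀ i k, e k ≤ e i := by
    intro i k
    by_contra hlt
    push Not at hlt
    set x := θ.symm (Pi.mulSingle i (z i)) with hx
    set y := θ.symm (Pi.mulSingle k (Multiplicative.ofAdd (1 : ZMod (n k)))) with hy
    have hyk : θ (y ^ 2 ^ e k) = Pi.mulSingle k (z k) := by
      rw [map_pow, hy, θ.apply_symm_apply, ← Pi.mulSingle_pow]
      congr 1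
      apply Multiplicative.toAdd.injective
      show (2 ^ e k : ℕ) • (1 : ZMod (n k)) = (2 : ZMod (n k)) ^ e k
      rw [nsmul_eq_mul, mul_one, Nat.cast_pow, Nat.cast_ofNat]
    have hne : ∀ j, θ.symm (Pi.mulSingle j (z j)) ≠ 1 := fun j h =>
      hz1 j (by simpa using congrArg θ h)
    have hsq : ∀ j, θ.symm (Pi.mulSingle j (z j)) ^ 2 = 1 := fun j => by
      rw [← map_pow, ← Pi.mulSingle_pow, hz2, Pi.mulSingle_one, map_one]
    obtain ⟨a, ha⟩ := htr (y ^ 2 ^ e k) x
      (by rw [← θ.symm_apply_apply (y ^ 2 ^ e k), hyk]; exact hne k)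
      (by rw [← θ.symm_apply_apply (y ^ 2 ^ e k), hyk]; exact hsq k) (hne i) (hsq i)
    have h1 := congrFun (congrArg θ ha) i
    rw [map_pow, map_pow, hx, θ.apply_symm_apply, Pi.mulSingle_eq_same, Pi.pow_apply] at h1
    refine hz1 i (h1.symm.trans ?_)
    have hdiv : n i ∣ 2 ^ e k := he i ▸ Nat.pow_dvd_pow 2 hlt
    obtain ⟨q, hq⟩ := hdiv
    rw [hq, pow_mul]
    have h2 : ∀ w : Multiplicative (ZMod (n i)), w ^ n i = 1 := fun w => by
      apply Multiplicative.toAdd.injective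
      show n i • w.toAdd = 0
      rw [nsmul_eq_mul, ZMod.natCast_self, zero_mul]
    rw [h2, one_pow]
  rcases isEmpty_or_nonempty ι with hemp | ⟨⟨i₀⟩⟩
  · exact ⟨0, 0, ⟨θ.trans
      { toFun := fun _ => Fin.elim0
        invFun := fun _ i => isEmptyElim i
        left_inv := fun f => funext fun i => isEmptyElim i
        right_inv := fun f => funext fun i => i.elim0
        map_mul' := fun _ _ => funext fun i => i.elim0 }⟩⟩
  · obtain rfl : n = fun _ => 2 ^ (e i₀ + 1) := funext fun i => by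
      rw [he i, le_antisymm (hle i₀ i) (hle i i₀)]
    exact ⟨e i₀ + 1, Fintype.card ι, ⟨θ.trans (MulEquiv.arrowCongr (Fintype.equivFin ι) (MulEquiv.refl _))⟩⟩

variable {G : Type u} [Group G] [Finite G] [Group.IsSolvable G]

/-- The subgroup of involutions. -/
theorem exists_setting (hO : Cfsg.pPrimeCore 2 G = ⊥)
    (hconj : ∀ x y : G, x ≠ 1 → x ^ 2 = 1 → y ≠ 1 → y ^ 2 = 1 → IsConj x y)
    (htwo : ∃ x y : G, x ≠ y ∧ x ≠ 1 ∧ x ^ 2 = 1 ∧ y ≠ 1 ∧ y ^ 2 = 1) :
    ∃ E : Subgroup G, Setting E := by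
  haveI : Fact (Nat.Prime 2) := ⟨Nat.prime_two⟩
  set F := Cfsg.pCore 2 G with hFdef
  have hsc : centralizer (F : Set G) ≤ F := CfsgLib.Fitting.centralizer_pCore_le hO
  obtain ⟨x₀, y₀, hxy, hx1, hx2, hy1, hy2⟩ := htwo
  have hFne : F ≠ ⊥ := fun h => by
    rw [h] at hsc
    exact hx1 (mem_bot.1 (hsc (mem_centralizer_iff.2 fun t ht => by rw [mem_bot.1 ht]; simp)))
  haveI : Nontrivial F := (nontrivial_iff_ne_bot F).2 hFne
  haveI : Nontrivial (center F) := (isPGroup_pCore (G := G) 2).center_nontrivial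
  obtain ⟨k, hk⟩ := IsPGroup.iff_card.1 ((isPGroup_pCore (G := G) 2).to_subgroup (center F))
  obtain ⟨z, hz⟩ := exists_prime_orderOf_dvd_card' (G := center F) 2 (by
    rcases k with _ | k
    · exact absurd hk (by simpa using (Finite.one_lt_card (α := center F)).ne')
    · exact hk ▸ dvd_pow_self 2 k.succ_ne_zero)
  set z₀ : G := ((z : F) : G) with hz₀
  have hz1 : z₀ ≠ 1 := fun h => by
    have : z = 1 := Subtype.ext (Subtype.ext h)
    rw [this, orderOf_one] at hz
    omega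
  have hz2 : z₀ ^ 2 = 1 := by
    rw [hz₀, ← SubmonoidClass.coe_pow, ← SubmonoidClass.coe_pow, ← hz, pow_orderOf_eq_one]; rfl
  have hall : ∀ x : G, x * x = 1 → x ∈ F ⊓ centralizer (F : Set G) := by
    intro x hx
    by_cases h1 : x = 1
    · rw [h1]; exact one_mem _
    obtain ⟨g, rfl⟩ := isConj_iff.1 (hconj z₀ x hz1 hz2 h1 (by rw [pow_two, hx]))
    refine (inferInstance : (F ⊓ centralizer (F : Set G)).Normal).conj_mem _ ?_ g
    exact ⟨(z : F).2, mem_centralizer_iff.2 fun f hf =>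
      congrArg Subtype.val (mem_center_iff.1 z.2 ⟨f, hf⟩)⟩
  let E : Subgroup G :=
    { carrier := {x | x * x = 1}
      one_mem' := mul_one 1
      mul_mem' := fun {a b} ha hb => by
        show a * b * (a * b) = 1
        have hab : b * a = a * b := mem_centralizer_iff.1 (hall a ha).2 b (hall b hb).1
        calc a * b * (a * b) = a * (b * a) * b := by group
          _ = (a * a) * (b * b) := by rw [hab]; group
          _ = 1 := by rw [show a * a = 1 from ha, show b * b = 1 from hb, one_mul]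
      inv_mem' := fun {a} ha => by
        show a⁻¹ * a⁻¹ = 1
        rw [← mul_inv_rev, show a * a = 1 from ha, inv_one] }
  refine ⟨E, ⟨fun x => Iff.rfl, fun x hx => (hall x hx).1, fun x hx => (hall x hx).2, ?_, ?_, ?_, hsc⟩⟩
  · refine ⟨fun x hx g => ?_⟩
    show g * x * g⁻¹ * (g * x * g⁻¹) = 1
    rw [show g * x * g⁻¹ * (g * x * g⁻¹) = g * (x * x) * g⁻¹ by group, show x * x = 1 from hx]
    group
  · intro x hx y hy h1 h2
    exact isConj_iff.1 (hconj x y h1 (by rw [pow_two]; exact hx) h2 (by rw [pow_two]; exact hy))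
  · exact ⟨x₀, show x₀ * x₀ = 1 by rw [← pow_two, hx2], y₀, show y₀ * y₀ = 1 by rw [← pow_two, hy2],
      hx1, hy1, hxy⟩

/-- The Sylow `2`-subgroup of such a group is `O₂`. -/
theorem sylow_eq_pCore (hO : Cfsg.pPrimeCore 2 G = ⊥)
    (hconj : ∀ x y : G, x ≠ 1 → x ^ 2 = 1 → y ≠ 1 → y ^ 2 = 1 → IsConj x y)
    (htwo : ∃ x y : G, x ≠ y ∧ x ≠ 1 ∧ x ^ 2 = 1 ∧ y ≠ 1 ∧ y ^ 2 = 1) (S : Sylow 2 G) :
    (S : Subgroup G) = Cfsg.pCore 2 G := by
  haveI : Fact (Nat.Prime 2) := ⟨Nat.prime_two⟩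
  obtain ⟨E, hE⟩ := exists_setting hO hconj htwo
  refine le_antisymm (fun x hx => ?_) (CfsgLib.Fitting.pCore_le_sylow S)
  obtain ⟨j, hj⟩ := S.2 ⟨x, hx⟩
  exact hE.mem_core (congrArg Subtype.val hj : x ^ 2 ^ j = 1)

end CfsgLib.OneClass
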