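import Cfsg.Agent.Solvable.Fitting
import Cfsg.Agent.S1160

/-!
General lemmas for groups with one class of involutions: elements of odd and of two-power order,
cores of solvable groups, semiregular actions.
-/

set_option autoImplicit false
set_option linter.style.haveILetI false
set_option linter.unusedSectionVars false

namespace CfsgLib.OneClass

open Subgroup
open scoped commutatorElement

universe u

variable {G : Type u} [Group G] [Finite G]

/-- An element of odd order and of two-power order is trivial. -/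
theorem eq_one_of_odd_of_two_pow {x : G} (h : Odd (orderOf x)) {k : ℕ} (hk : x ^ 2 ^ k = 1) :
    x = 1 := by
  obtain ⟨j, -, hj⟩ := (Nat.dvd_prime_pow Nat.prime_two).1 (orderOf_dvd_of_pow_eq_one hk)
  rcases j with _ | j
  · exact orderOf_eq_one_iff.1 (by rw [hj, pow_zero])
  · rw [hj, Nat.odd_pow_iff (by omega)] at h
    exact absurd h (by decide)

/-- Some two-power power of an element has odd order. -/
theorem exists_odd_pow (g : G) : ∃ j, Odd (orderOf (g ^ 2 ^ j)) := by
  obtain ⟨j, m, hm, he⟩ := Nat.exists_eq_two_pow_mul_odd (orderOf_pos g).ne'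
  refine ⟨j, hm.of_dvd_nat (orderOf_dvd_of_pow_eq_one ?_)⟩
  rw [← pow_mul, ← he, pow_orderOf_eq_one]

/-- A two-power power of a non-identity element of odd order is not the identity. -/
theorem pow_two_pow_ne_one {g : G} (hg : g ≠ 1) (ho : Odd (orderOf g)) (j : ℕ) : g ^ 2 ^ j ≠ 1 :=
  fun h => hg (eq_one_of_odd_of_two_pow ho h)

/-- Elements of a `q`-group have odd order for odd `q`. -/
theorem odd_of_isPGroup {q : ℕ} [Fact q.Prime] (hq : q ≠ 2) {R : Subgroup G} (hR : IsPGroup q R)
    {x : G} (hx : x ∈ R) : Odd (orderOf x) := by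
  obtain ⟨k, hk⟩ := IsPGroup.iff_orderOf.1 hR ⟨x, hx⟩
  rw [Subgroup.orderOf_mk] at hk
  rw [hk]
  exact ((Fact.out : q.Prime).odd_of_ne_two hq).pow

/-- A coset moved by an element of odd order which fixes the displacement is fixed. -/
theorem eq_one_of_coset {g x y : G} (hg : Odd (orderOf g)) (h : g * x * g⁻¹ = x * y)
    (hy : g * y * g⁻¹ = y) {k : ℕ} (hk : y ^ 2 ^ k = 1) : y = 1 := by
  have hit : ∀ n : ℕ, g ^ n * x * (g ^ n)⁻¹ = x * y ^ n := by
    intro n
    induction n with
    | zero => simp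
    | succ n ih =>
      rw [show g ^ (n + 1) * x * (g ^ (n + 1))⁻¹ = g * (g ^ n * x * (g ^ n)⁻¹) * g⁻¹ by
        rw [pow_succ']; group, ih,
        show g * (x * y ^ n) * g⁻¹ = (g * x * g⁻¹) * (g * y * g⁻¹) ^ n by
          rw [conj_pow]; group, h, hy, mul_assoc, ← pow_succ']
  have h1 := hit (orderOf g)
  rw [pow_orderOf_eq_one, one_mul, inv_one, mul_one, left_eq_mul] at h1
  exact eq_one_of_odd_of_two_pow (hg.of_dvd_nat (orderOf_dvd_of_pow_eq_one h1)) hk

theorem conj_inverts {M : Type*} [Group M] {X : M} (hX : X * X = 1) (Y : M) :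
    X * (Y⁻¹ * X * Y * X⁻¹) * X⁻¹ = (Y⁻¹ * X * Y * X⁻¹)⁻¹ := by
  rw [inv_eq_of_mul_eq_one_right hX]
  refine eq_inv_of_mul_eq_one_left ?_
  calc X * (Y⁻¹ * X * Y * X) * X * (Y⁻¹ * X * Y * X)
        = X * (Y⁻¹ * X * Y * (X * X)) * (Y⁻¹ * X * Y * X) := by group
    _ = X * Y⁻¹ * (X * X) * Y * X := by nth_rewrite 1 [hX]; group
    _ = 1 := by rw [hX, mul_one, inv_mul_cancel_right, hX]

theorem pCore_characteristic (p : ℕ) : (Cfsg.pCore p G).Characteristic :=
  characteristic_iff_map_le.2 fun φ => CfsgLib.Solvable.le_pCore p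
    (Normal.map inferInstance φ.toMonoidHom φ.surjective)
    ((CfsgLib.Solvable.isPGroup_pCore p).map φ.toMonoidHom)

theorem pCore_quotient_pCore (p : ℕ) [Fact p.Prime] :
    Cfsg.pCore p (G ⧸ Cfsg.pCore p G) = ⊥ := by
  set O := Cfsg.pCore p G
  let f := QuotientGroup.mk' O
  have hf : Function.Surjective f := QuotientGroup.mk'_surjective O
  set X := Cfsg.pCore p (G ⧸ O)
  have hp : IsPGroup p (X.comap f) := (CfsgLib.Solvable.isPGroup_pCore p).comap_of_ker_isPGroup f
    (by rw [QuotientGroup.ker_mk']; exact CfsgLib.Solvable.isPGroup_pCore p)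
  rw [← map_comap_eq_self_of_surjective hf X, Subgroup.map_eq_bot_iff, QuotientGroup.ker_mk']
  exact CfsgLib.Solvable.le_pCore p (Normal.comap inferInstance f) hp

/-- In a solvable group with trivial `O₂`, a `2`-element centralising all cores is trivial. -/
theorem eq_one_of_centralizes_cores [Group.IsSolvable G] (h2 : Cfsg.pCore 2 G = ⊥) {x : G} {k : ℕ}
    (hx : x ^ 2 ^ k = 1)
    (h : ∀ q : ℕ, q.Prime → ∀ t ∈ Cfsg.pCore q G, t * x = x * t) : x = 1 := by
  have hxc : x ∈ centralizer (Cfsg.fittingSubgroup G : Set G) := by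
    have hle : Cfsg.fittingSubgroup G ≤ centralizer ({x} : Set G) := by
      rw [CfsgLib.Solvable.fittingSubgroup_eq_iSup_pCore]
      exact iSup_le fun q t ht => mem_centralizer_singleton_iff.2 (h q q.2 t ht)
    exact mem_centralizer_iff.2 fun t ht => mem_centralizer_singleton_iff.1 (hle ht)
  have hxF := CfsgLib.Fitting.centralizer_fittingSubgroup_le_of_solvable hxc
  set F := Cfsg.fittingSubgroup G
  haveI : Group.IsNilpotent F := CfsgLib.Solvable.isNilpotent_fittingSubgroup
  haveI : Fact (Nat.Prime 2) := ⟨Nat.prime_two⟩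
  have hp : IsPGroup 2 (zpowers (⟨x, hxF⟩ : F)) := by
    obtain ⟨j, -, hj⟩ := (Nat.dvd_prime_pow Nat.prime_two).1
      (orderOf_dvd_of_pow_eq_one (x := (⟨x, hxF⟩ : F)) (n := 2 ^ k) (Subtype.ext (by simpa using hx)))
    exact IsPGroup.of_card (by rw [Nat.card_zpowers, hj])
  obtain ⟨P, hP⟩ := hp.exists_le_sylow
  haveI : (P : Subgroup F).Normal := inferInstance
  haveI := Sylow.characteristic_of_normal P inferInstance
  have hle : (P : Subgroup F).map F.subtype ≤ Cfsg.pCore 2 G :=
    CfsgLib.Solvable.le_pCore 2 inferInstance (P.2.map F.subtype)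
  have := hle ⟨_, hP (mem_zpowers _), rfl⟩
  rwa [h2, mem_bot] at this

/-- A nontrivial solvable group has a nontrivial core. -/
theorem exists_core_ne_bot [Group.IsSolvable G] [Nontrivial G] :
    ∃ q : ℕ, q.Prime ∧ Cfsg.pCore q G ≠ ⊥ := by
  by_contra h
  push Not at h
  have hF : Cfsg.fittingSubgroup G = ⊥ := by
    rw [CfsgLib.Solvable.fittingSubgroup_eq_iSup_pCore, iSup_eq_bot]
    exact fun q => h q q.2
  have h1 := CfsgLib.Fitting.centralizer_fittingSubgroup_le_of_solvable (G := G)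
  rw [hF] at h1
  obtain ⟨x, hx⟩ := exists_ne (1 : G)
  refine hx (mem_bot.1 (h1 (mem_centralizer_iff.2 fun t ht => ?_)))
  rw [mem_bot.1 ht]
  simp

/-- Two elements normalising a cyclic subgroup act commutingly on it. -/
theorem commutator_centralizes_cyclic {T : Subgroup G} (hc : IsCyclic T) (hT : T.Normal) (a b : G)
    {t : G} (ht : t ∈ T) : t * ⁅a, b⁆ = ⁅a, b⁆ * t := by
  obtain ⟨⟨g, hg⟩, hgen⟩ := hc.exists_generator
  have hpow : ∀ s ∈ T, ∃ i : ℤ, g ^ i = s := fun s hs => by
    obtain ⟨i, hi⟩ := hgen ⟨s, hs⟩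
    exact ⟨i, congrArg Subtype.val hi⟩
  have hcomm : ∀ c d : G, c * (d * g * d⁻¹) * c⁻¹ = d * (c * g * c⁻¹) * d⁻¹ := by
    intro c d
    obtain ⟨i, hi⟩ := hpow _ (hT.conj_mem g hg c)
    obtain ⟨j, hj⟩ := hpow _ (hT.conj_mem g hg d)
    rw [← hi, ← hj, ← conj_zpow, ← conj_zpow, ← hi, ← hj, ← zpow_mul, ← zpow_mul, mul_comm]
  have hg' : ⁅a, b⁆ * g * ⁅a, b⁆⁻¹ = g := by
    calc ⁅a, b⁆ * g * ⁅a, b⁆⁻¹ = a * (b * (a⁻¹ * (b⁻¹ * g * b) * a) * b⁻¹) * a⁻¹ := by
          rw [commutatorElement_def]; group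
      _ = a * (b * (b⁻¹ * (a⁻¹ * g * a) * b) * b⁻¹) * a⁻¹ := by
          have := hcomm a⁻¹ b⁻¹
          rw [inv_inv, inv_inv] at this
          rw [this]
      _ = g := by group
  obtain ⟨i, rfl⟩ := hpow t ht
  exact ((show Commute g ⁅a, b⁆ by
    show g * ⁅a, b⁆ = ⁅a, b⁆ * g
    nth_rewrite 1 [← hg']
    group).zpow_left i).eq

/-- An odd-order group of prime power order acting faithfully on an elementary abelian `2`-group
with stabilisers of constant order is cyclic and semiregular. -/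
theorem semiregular_of_constant {R A : Type*} [Group R] [Finite R] [CommGroup A] [Finite A]
    {r : ℕ} [Fact r.Prime] (hr : r ≠ 2) (hR : IsPGroup r R) (hA : ∀ a : A, a * a = 1)
    (φ : R →* MulAut A) (hφ : Function.Injective φ)
    (hconst : ∀ a b : A, a ≠ 1 → b ≠ 1 →
      Nat.card {g : R // φ g a = a} = Nat.card {g : R // φ g b = b}) :
    IsCyclic R ∧ ∀ g : R, g ≠ 1 → ∀ a, φ g a = a → a = 1 := by
  letI : DistribMulAction R (Additive A) :=
    { smul := fun g a => Additive.ofMul (φ g a.toMul)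
      one_smul := fun a => by
        show Additive.ofMul (φ 1 a.toMul) = a
        rw [map_one]; rfl
      mul_smul := fun g g' a => by
        show Additive.ofMul (φ (g * g') a.toMul) = _
        rw [map_mul]; rfl
      smul_zero := fun g => by
        show Additive.ofMul (φ g 1) = 0
        rw [map_one]; rfl
      smul_add := fun g a b => by
        show Additive.ofMul (φ g (a.toMul * b.toMul)) = _
        rw [map_mul]; rfl }
  haveI : FaithfulSMul R (Additive A) := ⟨fun {g g'} h => hφ (MulEquiv.ext fun a =>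
    congrArg Additive.toMul (h (Additive.ofMul a)))⟩
  obtain ⟨h1, h2⟩ := Cfsg.Agent.S1160.result (P := R) (E := Additive A) (q := 2) hr hR Nat.prime_two
    (fun a => by rw [two_nsmul]; exact hA a.toMul)
    (fun a b ha hb => hconst a.toMul b.toMul (fun h => ha (congrArg Additive.ofMul h))
      (fun h => hb (congrArg Additive.ofMul h)))
  exact ⟨h1, fun g hg a ha => congrArg Additive.toMul (h2 g hg (Additive.ofMul a) (congrArg Additive.ofMul ha))⟩

end CfsgLib.OneClass
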