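import Mathlib.Analysis.Fourier.FiniteAbelian.PontryaginDuality
import Mathlib.GroupTheory.PGroup
import Mathlib.Tactic.Ring
import Mathlib.Tactic.LinearCombination
import Mathlib.Tactic.Linarith

/-!
# Quadratic maps with equal fibres

A quadratic map `q : W → E` between finite elementary abelian `2`-groups which vanishes only at the
identity and has all fibres over non-identity elements of the same size: an isometry of odd period
fixing a non-identity element is trivial.
-/

set_option autoImplicit false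
set_option linter.style.haveILetI false
set_option linter.unusedSectionVars false

namespace CfsgLib.OneClass

open Finset
open scoped Classical

/-- The order of a group of exponent two. -/
theorem card_eq_two_pow {A : Type*} [Group A] [Finite A] (hA : ∀ a : A, a * a = 1) :
    ∃ n, Nat.card A = 2 ^ n :=
  IsPGroup.iff_card.1 fun a => ⟨1, by rw [pow_one, pow_two, hA]⟩

/-- A sign character sums to zero or to the order of the group. -/
theorem sum_sign_eq {A : Type*} [Group A] [Fintype A] (f : A → ℤ)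
    (hf : ∀ a b, f (a * b) = f a * f b) :
    (∑ a, f a = Fintype.card A ∧ ∀ a, f a = 1) ∨ ∑ a, f a = 0 := by
  by_cases h : ∀ a, f a = 1
  · exact Or.inl ⟨by simp [h], h⟩
  · push Not at h
    obtain ⟨a, ha⟩ := h
    refine Or.inr ?_
    have he : f a * ∑ b, f b = ∑ b, f b := by
      rw [Finset.mul_sum]
      exact Fintype.sum_equiv (Equiv.mulLeft a) _ _ fun b => (hf a b).symm
    have : (f a - 1) * ∑ b, f b = 0 := by rw [sub_mul, he, one_mul, sub_self]
    exact (mul_eq_zero.1 this).resolve_left (sub_ne_zero.2 ha)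

section Sign

variable {E : Type*} [CommGroup E]

/-- The sign of a character at an element. -/
noncomputable def sgn (ψ : AddChar (Additive E) ℂ) (e : E) : ℤ :=
  if ψ (Additive.ofMul e) = 1 then 1 else -1

theorem cast_sgn (hE : ∀ e : E, e * e = 1) (ψ : AddChar (Additive E) ℂ) (e : E) :
    ((sgn ψ e : ℤ) : ℂ) = ψ (Additive.ofMul e) := by
  have h : ψ (Additive.ofMul e) * ψ (Additive.ofMul e) = 1 := by
    rw [← AddChar.map_add_eq_mul, ← ofMul_mul, hE, ofMul_one, AddChar.map_zero_eq_one]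
  unfold sgn
  split_ifs with h1
  · simp [h1]
  · rcases mul_self_eq_one_iff.1 h with h2 | h2
    · exact absurd h2 h1
    · simp [h2]

theorem sgn_mul (hE : ∀ e : E, e * e = 1) (ψ : AddChar (Additive E) ℂ) (a b : E) :
    sgn ψ (a * b) = sgn ψ a * sgn ψ b := by
  apply Int.cast_injective (α := ℂ)
  push_cast
  rw [cast_sgn hE, cast_sgn hE, cast_sgn hE, ofMul_mul, AddChar.map_add_eq_mul]

theorem sgn_one (ψ : AddChar (Additive E) ℂ) : sgn ψ (1 : E) = 1 := by
  simp [sgn]

variable [Fintype E]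

theorem sum_sgn_eq_zero (hE : ∀ e : E, e * e = 1) {ψ : AddChar (Additive E) ℂ} (hψ : ψ ≠ 0) :
    ∑ e : E, sgn ψ e = 0 := by
  rcases sum_sign_eq (sgn ψ) (sgn_mul hE ψ) with ⟨-, h⟩ | h
  · refine absurd (DFunLike.ext _ _ fun x => ?_) hψ
    obtain ⟨e, rfl⟩ := Additive.ofMul.surjective x
    rw [← cast_sgn hE ψ e, h]
    simp
  · exact h

theorem sum_sgn_dual (hE : ∀ e : E, e * e = 1) (e : E) :
    ∑ ψ : AddChar (Additive E) ℂ, sgn ψ e = if e = 1 then (Fintype.card E : ℤ) else 0 := by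
  apply Int.cast_injective (α := ℂ)
  push_cast
  simp only [cast_sgn hE]
  rw [AddChar.sum_apply_eq_ite]
  have hc : Fintype.card (Additive E) = Fintype.card E :=
    Fintype.card_congr Additive.toMul
  by_cases he : e = 1
  · simp [he, hc]
  · rw [if_neg he, if_neg]
    intro h
    exact he (by simpa using h)

end Sign

/-- An odd number of odd summands. -/
theorem odd_sum {ι : Type*} (s : Finset ι) (f : ι → ℤ) (hf : ∀ x ∈ s, Odd (f x))
    (hs : Odd s.card) : Odd (∑ x ∈ s, f x) := by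
  rw [Int.odd_iff, Finset.sum_int_mod, Finset.sum_congr rfl fun x hx => Int.odd_iff.1 (hf x hx),
    Finset.sum_const, nsmul_eq_mul, mul_one]
  obtain ⟨k, hk⟩ := hs
  rw [hk]
  push_cast
  omega

/-- A square divisible as an exact power of two. -/
theorem sq_eq_two_pow {S : ℤ} {d : ℕ} (h : S ^ 2 = 2 ^ d) :
    ∃ c, d = 2 * c ∧ (S = 2 ^ c ∨ S = -2 ^ c) := by
  have h1 : S.natAbs ^ 2 = 2 ^ d := by
    have := congrArg Int.natAbs h
    rwa [Int.natAbs_pow, Int.natAbs_pow] at this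
  obtain ⟨c, -, hc⟩ := (Nat.dvd_prime_pow Nat.prime_two).1 (h1 ▸ dvd_pow_self S.natAbs two_ne_zero)
  refine ⟨c, ?_, ?_⟩
  · rw [hc, ← pow_mul] at h1
    have := Nat.pow_right_injective le_rfl h1
    omega
  · rcases Int.natAbs_eq S with h2 | h2
    · exact Or.inl (by rw [h2, hc]; norm_num)
    · exact Or.inr (by rw [h2, hc]; norm_num)

/-- The arithmetic of equal fibres. -/
theorem fibre_arith {N d n : ℕ} (hN : 2 ≤ N) (hn : 1 ≤ n) (h : N * (2 ^ n - 1) + 1 = 2 ^ d)
    (hdvd : (2 : ℤ) ^ d ∣ (1 - (N : ℤ)) ^ 2) : d = 2 * n ∧ N = 2 ^ n + 1 := by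
  have hp : 1 ≤ 2 ^ n := Nat.one_le_two_pow
  have hdn : n < d := by
    by_contra hle
    push Not at hle
    have h1 : 2 ^ d ≤ 2 ^ n := Nat.pow_le_pow_right two_pos hle
    have h2 : 2 * (2 ^ n - 1) ≤ N * (2 ^ n - 1) := Nat.mul_le_mul_right _ hN
    have h3 : 2 ≤ 2 ^ n := le_trans (by norm_num) (Nat.pow_le_pow_right two_pos hn)
    omega
  obtain ⟨e, rfl⟩ : ∃ e, d = n + e := ⟨d - n, by omega⟩
  have he : 1 ≤ e := by omega
  have hz : (N : ℤ) * ((2 : ℤ) ^ n - 1) + 1 = (2 : ℤ) ^ n * 2 ^ e := by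
    rw [← pow_add]
    have := congrArg (Nat.cast : ℕ → ℤ) h
    push_cast [Nat.cast_sub hp] at this
    exact this
  set k : ℤ := (N : ℤ) - 2 ^ e with hk
  have hN1 : (N : ℤ) - 1 = 2 ^ n * k := by rw [hk]; linear_combination -hz
  have hkodd : ¬ (2 : ℤ) ∣ k := by
    intro h2
    have h3 : (2 : ℤ) ∣ 2 ^ e := dvd_pow_self 2 (by omega)
    have h4 : (2 : ℤ) ∣ N := by
      have := dvd_add h2 h3
      rwa [hk, sub_add_cancel] at this
    have h5 : (2 : ℤ) ∣ 2 ^ n * k := h2.mul_left _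
    rw [← hN1] at h5
    have := dvd_sub h4 h5
    rw [sub_sub_cancel] at this
    exact absurd this (by norm_num)
  have hle : n + e ≤ 2 * n := by
    by_contra hlt
    push Not at hlt
    have e1 : (1 - (N : ℤ)) ^ 2 = 2 ^ (2 * n) * k ^ 2 := by
      have : (1 - (N : ℤ)) = -(2 ^ n * k) := by rw [← hN1]; ring
      rw [this]
      ring
    rw [e1, show n + e = 2 * n + (n + e - 2 * n) by omega, pow_add] at hdvd
    have h6 := Int.dvd_of_mul_dvd_mul_left (a := (2 : ℤ) ^ (2 * n)) (by positivity) hdvd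
    exact hkodd (Int.prime_two.dvd_of_dvd_pow ((dvd_pow_self (2 : ℤ) (by omega)).trans h6))
  have hkn : (2 : ℤ) ^ e = 1 + k * (2 ^ n - 1) := by
    have h7 : (2 : ℤ) ^ n * 2 ^ e = 2 ^ n * (1 + k * (2 ^ n - 1)) := by
      linear_combination (2 ^ n - 1) * hN1 - hz
    exact mul_left_cancel₀ (by positivity) h7
  have hk1 : 1 ≤ k := by
    by_contra h8
    push Not at h8
    have : (N : ℤ) - 1 ≤ 0 := by
      rw [hN1]
      nlinarith [pow_pos (two_pos : (0 : ℤ) < 2) n]
    omega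
  have h2n : (2 : ℤ) ≤ 2 ^ n := by exact_mod_cast Nat.le_self_pow (show n ≠ 0 by omega) 2
  have hen : (2 : ℤ) ^ e ≤ 2 ^ n := pow_le_pow_right₀ (by norm_num) (by omega)
  have hke : k = 1 := by nlinarith
  rw [hke, one_mul, add_sub_cancel] at hkn
  have he' : e = n := Nat.pow_right_injective le_rfl (show 2 ^ e = 2 ^ n by exact_mod_cast hkn)
  refine ⟨by omega, ?_⟩
  rw [hke, mul_one] at hN1
  have : (N : ℤ) = ((2 ^ n + 1 : ℕ) : ℤ) := by push_cast; linarith
  exact_mod_cast this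

section Main

variable {W E : Type*} [CommGroup W] [Finite W] [CommGroup E] [Finite E]

/-- An isometry of odd period fixing a non-identity element is trivial. -/
theorem eq_one_of_fix (hW : ∀ w : W, w * w = 1) (hE : ∀ e : E, e * e = 1)
    (q : W → E) (β : W → W → E) (hq : ∀ a b, q (a * b) = q a * q b * β a b)
    (hβ : ∀ a a' b, β (a * a') b = β a b * β a' b) (hq1 : ∀ w, q w = 1 ↔ w = 1)
    (hfib : ∀ e e' : E, e ≠ 1 → e' ≠ 1 →
      Nat.card {w // q w = e} = Nat.card {w // q w = e'})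
    (m : MulAut W) (hm : ∀ w, q (m w) = q w) (hodd : Odd (orderOf m))
    {w₀ : W} (hw₀ : w₀ ≠ 1) (hfix : m w₀ = w₀) : m = 1 := by
  haveI : Fintype W := Fintype.ofFinite W
  haveI : Fintype E := Fintype.ofFinite E
  by_contra hne
  obtain ⟨w₁, hw₁⟩ : ∃ w, m w ≠ w := by
    by_contra h
    push Not at h
    exact hne (MulEquiv.ext h)
  -- the form
  have hβs : ∀ a b, β a b = β b a := fun a b => by
    have h := hq a b
    rw [mul_comm a b, hq b a, mul_comm (q b) (q a)] at h
    exact (mul_left_cancel h).symm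
  have hβr : ∀ a b b', β a (b * b') = β a b * β a b' := fun a b b' => by
    rw [hβs, hβ, hβs b, hβs b']
  have hβm : ∀ a b, β (m a) (m b) = β a b := fun a b => by
    have h := hq (m a) (m b)
    rw [← map_mul, hm, hm, hm, hq] at h
    exact (mul_left_cancel h).symm
  have hβ1 : ∀ a, β a 1 = 1 := fun a => by
    have h := hβr a 1 1
    rw [mul_one] at h
    exact left_eq_mul.1 h
  -- the projection on the fixed points
  set r := orderOf m with hr
  let P : W →* W :=
    { toFun := fun w => ∏ i ∈ Finset.range r, (m ^ i) w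
      map_one' := by simp
      map_mul' := fun a b => by simp [Finset.prod_mul_distrib] }
  have hPm : ∀ w, m (P w) = P w := by
    intro w
    show m (∏ i ∈ Finset.range r, (m ^ i) w) = ∏ i ∈ Finset.range r, (m ^ i) w
    rw [map_prod]
    have e1 : ∀ i, m ((m ^ i) w) = (m ^ (i + 1)) w := fun i => by rw [pow_succ']; rfl
    simp only [e1]
    have h2 := Finset.prod_range_succ (fun i => (m ^ i) w) r
    rw [Finset.prod_range_succ' (fun i => (m ^ i) w) r] at h2
    simp only [hr, pow_orderOf_eq_one, pow_zero, MulAut.one_apply] at h2 ⊢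
    exact mul_right_cancel h2
  obtain ⟨j, hj⟩ := hodd
  have hrW : ∀ a : W, a ^ r = a := fun a => by
    rw [hj, pow_succ, pow_mul, pow_two, hW, one_pow, one_mul]
  have hrE : ∀ a : E, a ^ r = a := fun a => by
    rw [hj, pow_succ, pow_mul, pow_two, hE, one_pow, one_mul]
  have hPfix : ∀ w, m w = w → P w = w := by
    intro w hw
    have : ∀ i, (m ^ i) w = w := fun i => by
      induction i with
      | zero => rfl
      | succ i ih => rw [pow_succ, MulAut.mul_apply, hw, ih]
    show ∏ i ∈ Finset.range r, (m ^ i) w = w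
    simp only [this, Finset.prod_const, Finset.card_range]
    exact hrW w
  have horth : ∀ a b, m a = a → P b = 1 → β a b = 1 := by
    intro a b ha hb
    let B : W →* E := { toFun := β a, map_one' := hβ1 a, map_mul' := hβr a }
    have h1 : ∀ i, β a ((m ^ i) b) = β a b := fun i => by
      induction i with
      | zero => rfl
      | succ i ih =>
        rw [pow_succ', MulAut.mul_apply]
        nth_rewrite 1 [← ha]
        rw [hβm, ih]
    have h2 : B (P b) = β a b ^ r := by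
      show B (∏ i ∈ Finset.range r, (m ^ i) b) = _
      rw [map_prod]
      show ∏ i ∈ Finset.range r, β a ((m ^ i) b) = _
      simp [h1]
    rw [hb, map_one, hrE] at h2
    exact h2.symm
  let W1 : Subgroup W := MonoidHom.eqLocus m.toMonoidHom (MonoidHom.id W)
  let W2 : Subgroup W := P.ker
  have hW1 : ∀ a : W1, m (a : W) = a := fun a => a.2
  have hW2 : ∀ b : W2, P (b : W) = 1 := fun b => b.2
  let eqv : W1 × W2 ≃ W :=
    { toFun := fun x => (x.1 : W) * x.2
      invFun := fun w => (⟨P w, hPm w⟩, ⟨(P w)⁻¹ * w, show P ((P w)⁻¹ * w) = 1 by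
        rw [map_mul, map_inv, hPfix _ (hPm w), inv_mul_cancel]⟩)
      left_inv := fun x => by
        have h : P ((x.1 : W) * x.2) = x.1 := by rw [map_mul, hPfix _ (hW1 _), hW2, mul_one]
        refine Prod.ext (Subtype.ext h) (Subtype.ext ?_)
        show (P ((x.1 : W) * x.2))⁻¹ * ((x.1 : W) * x.2) = x.2
        rw [h, inv_mul_cancel_left]
      right_inv := fun w => mul_inv_cancel_left (P w) w }
  -- cardinalities
  obtain ⟨n, hn⟩ := card_eq_two_pow hE
  obtain ⟨d, hd⟩ := card_eq_two_pow hW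
  obtain ⟨d₁, hd₁⟩ := card_eq_two_pow (A := W1) fun a => Subtype.ext (hW a)
  obtain ⟨d₂, hd₂⟩ := card_eq_two_pow (A := W2) fun a => Subtype.ext (hW a)
  have hd12 : d₁ + d₂ = d := by
    have h := Nat.card_congr eqv
    rw [Nat.card_prod, hd₁, hd₂, hd, ← pow_add] at h
    exact Nat.pow_right_injective le_rfl h
  have hd₁pos : 1 ≤ d₁ := by
    by_contra h
    have h0 : d₁ = 0 := by omega
    rw [h0, pow_zero] at hd₁
    haveI := (Nat.card_eq_one_iff_unique.1 hd₁).1
    exact hw₀ (congrArg Subtype.val (Subsingleton.elim (⟨w₀, hfix⟩ : W1) 1))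
  have hd₂pos : 1 ≤ d₂ := by
    by_contra h
    have h0 : d₂ = 0 := by omega
    rw [h0, pow_zero] at hd₂
    haveI := (Nat.card_eq_one_iff_unique.1 hd₂).1
    have hk : P ((P w₁)⁻¹ * w₁) = 1 := by
      rw [map_mul, map_inv, hPfix _ (hPm w₁), inv_mul_cancel]
    have h := congrArg Subtype.val (Subsingleton.elim (⟨(P w₁)⁻¹ * w₁, hk⟩ : W2) 1)
    rw [OneMemClass.coe_one, inv_mul_eq_one] at h
    exact hw₁ (by rw [← h]; exact hPm w₁)
  -- the fibres
  have he₀ : q w₀ ≠ 1 := fun h => hw₀ ((hq1 _).1 h)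
  set N := Nat.card {w // q w = q w₀} with hNdef
  have hn1 : 1 ≤ n := by
    by_contra h
    have h0 : n = 0 := by omega
    rw [h0, pow_zero] at hn
    haveI := (Nat.card_eq_one_iff_unique.1 hn).1
    exact he₀ (Subsingleton.elim _ _)
  have hfibre : ∀ e, e ≠ 1 → (Finset.univ.filter fun w => q w = e).card = N := by
    intro e he
    rw [hNdef, ← hfib e (q w₀) he he₀, Nat.card_eq_fintype_card, Fintype.card_subtype]
  have hcount : ∀ f : E → ℤ, ∑ w, f (q w) = f 1 + N * ∑ e ∈ Finset.univ.erase 1, f e := by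
    intro f
    rw [← Finset.sum_fiberwise (g := q) Finset.univ fun w => f (q w),
      ← Finset.add_sum_erase _ _ (Finset.mem_univ (1 : E)), Finset.mul_sum]
    congr 1
    · rw [show (Finset.univ.filter fun w => q w = 1) = {1} from by ext; simp [hq1],
        Finset.sum_singleton, (hq1 1).2 rfl]
    · refine Finset.sum_congr rfl fun e he => ?_
      rw [Finset.sum_congr rfl fun w hw => congrArg f (Finset.mem_filter.1 hw).2, Finset.sum_const,
        hfibre e (Finset.ne_of_mem_erase he), nsmul_eq_mul]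
  have hNd : N * (2 ^ n - 1) + 1 = 2 ^ d := by
    have h := hcount fun _ => 1
    simp only [Finset.sum_const, nsmul_eq_mul, mul_one, Finset.card_univ, Finset.card_erase_of_mem
      (Finset.mem_univ (1 : E))] at h
    rw [← Nat.card_eq_fintype_card, ← Nat.card_eq_fintype_card, hd, hn] at h
    have h' : (((N * (2 ^ n - 1) + 1 : ℕ)) : ℤ) = ((2 ^ d : ℕ) : ℤ) := by
      push_cast [Nat.cast_sub Nat.one_le_two_pow] at h ⊢
      linarith
    exact_mod_cast h'
  have hNge : 2 ≤ N := by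
    rw [hNdef, Nat.card_eq_fintype_card]
    by_contra h
    have hsub : Fintype.card {w // q w = q w₁} ≤ 1 := by
      have h1 : q w₁ ≠ 1 := fun e => hw₁ (by rw [(hq1 _).1 e, map_one])
      have := hfib (q w₁) (q w₀) h1 he₀
      rw [Nat.card_eq_fintype_card, Nat.card_eq_fintype_card] at this
      omega
    haveI := Fintype.card_le_one_iff_subsingleton.1 hsub
    exact hw₁ (congrArg Subtype.val
      (Subsingleton.elim (⟨m w₁, hm w₁⟩ : {w // q w = q w₁}) ⟨w₁, rfl⟩))
  -- the sums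
  let S : ∀ (_ : Subgroup W), AddChar (Additive E) ℂ → ℤ := fun V ψ => ∑ v : V, sgn ψ (q v)
  have hsq : ∀ (V : Subgroup W) (ψ : AddChar (Additive E) ℂ),
      (Fintype.card V : ℤ) ∣ S V ψ ^ 2 := by
    intro V ψ
    rw [pow_two, Finset.sum_mul]
    simp only [S, Finset.mul_sum]
    have h1 : ∀ a : V, (∑ b : V, sgn ψ (q a) * sgn ψ (q b)) =
        ∑ u : V, sgn ψ (q u) * sgn ψ (β a u) := by
      intro a
      refine (Fintype.sum_equiv (Equiv.mulLeft a) _ _ fun u => ?_).symm
      show _ = sgn ψ (q a) * sgn ψ (q ((a : W) * u))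
      rw [← sgn_mul hE, ← sgn_mul hE, hq, ← mul_assoc, ← mul_assoc, hE, one_mul]
    rw [Finset.sum_congr rfl fun a _ => h1 a, Finset.sum_comm]
    refine Finset.dvd_sum fun u _ => ?_
    rw [← Finset.mul_sum]
    refine Dvd.dvd.mul_left ?_ _
    rcases sum_sign_eq (fun a : V => sgn ψ (β a u))
      (fun a b => by rw [← sgn_mul hE, ← hβ]; rfl) with h | h
    · rw [h.1]
    · rw [h]; exact dvd_zero _
  have hprod : ∀ ψ, ∑ w, sgn ψ (q w) = S W1 ψ * S W2 ψ := by
    intro ψ
    rw [← Fintype.sum_equiv eqv (fun x => sgn ψ (q (eqv x))) _ fun _ => rfl, Fintype.sum_prod_type,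
      Finset.sum_mul]
    refine Finset.sum_congr (by ext; simp) fun a _ => ?_
    rw [Finset.mul_sum]
    refine Finset.sum_congr (by ext; simp) fun b _ => ?_
    show sgn ψ (q ((a : W) * b)) = _
    rw [hq, horth _ _ (hW1 a) (hW2 b), mul_one, sgn_mul hE]
  have hval : ∀ ψ, ψ ≠ 0 → S W1 ψ * S W2 ψ = 1 - N := by
    intro ψ hψ
    rw [← hprod, hcount]
    have h := sum_sgn_eq_zero hE hψ
    rw [← Finset.add_sum_erase _ _ (Finset.mem_univ (1 : E)), sgn_one] at h
    rw [sgn_one, eq_neg_of_add_eq_zero_right h]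
    ring
  have hz : ∀ (V : Subgroup W) (k : ℕ), Nat.card V = 2 ^ k → ∀ ψ, ∃ z, S V ψ ^ 2 = 2 ^ k * z := by
    intro V k hk ψ
    obtain ⟨z, hz⟩ := hsq V ψ
    rw [← Nat.card_eq_fintype_card, hk] at hz
    exact ⟨z, by rw [hz]; push_cast; ring⟩
  obtain ⟨ψ₀, hψ₀⟩ : ∃ ψ : AddChar (Additive E) ℂ, ψ ≠ 0 := by
    obtain ⟨ψ, hψ⟩ := (AddChar.exists_apply_ne_zero (a := Additive.ofMul (q w₀))).2 (by simpa)
    exact ⟨ψ, fun h => hψ (by rw [h]; rfl)⟩
  have hdvd : (2 : ℤ) ^ d ∣ (1 - (N : ℤ)) ^ 2 := by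
    obtain ⟨z₁, h1⟩ := hz W1 d₁ hd₁ ψ₀
    obtain ⟨z₂, h2⟩ := hz W2 d₂ hd₂ ψ₀
    exact ⟨z₁ * z₂, by rw [← hval ψ₀ hψ₀, mul_pow, h1, h2, ← hd12, pow_add]; ring⟩
  obtain ⟨hd2n, hN⟩ := fibre_arith hNge hn1 hNd hdvd
  -- exact values
  have hexact : ∀ ψ, ψ ≠ 0 → S W1 ψ ^ 2 = 2 ^ d₁ := by
    intro ψ hψ
    obtain ⟨z₁, h1⟩ := hz W1 d₁ hd₁ ψ
    obtain ⟨z₂, h2⟩ := hz W2 d₂ hd₂ ψ
    have h12 : (2 : ℤ) ^ d * (z₁ * z₂) = 2 ^ d * 1 := by
      calc (2 : ℤ) ^ d * (z₁ * z₂) = (2 ^ d₁ * z₁) * (2 ^ d₂ * z₂) := by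
            rw [← hd12, pow_add]; ring
        _ = (S W1 ψ * S W2 ψ) ^ 2 := by rw [mul_pow, h1, h2]
        _ = 2 ^ d * 1 := by rw [hval ψ hψ, hN, hd2n]; push_cast; ring
    have h3 := Int.eq_one_or_neg_one_of_mul_eq_one (mul_left_cancel₀ (by positivity) h12)
    rcases h3 with h3 | h3
    · rw [h1, h3, mul_one]
    · exfalso
      rw [h3] at h1
      nlinarith [sq_nonneg (S W1 ψ), pow_pos (two_pos : (0 : ℤ) < 2) d₁]
  obtain ⟨c, hc, -⟩ := sq_eq_two_pow (hexact ψ₀ hψ₀)
  -- total over all characters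
  have htot : ∑ ψ, S W1 ψ = 2 ^ n := by
    show ∑ ψ, ∑ v : W1, sgn ψ (q v) = _
    rw [Finset.sum_comm, Finset.sum_eq_single (1 : W1)]
    · rw [sum_sgn_dual hE, OneMemClass.coe_one, if_pos ((hq1 1).2 rfl),
        ← Nat.card_eq_fintype_card, hn]
      norm_num
    · intro v _ hv
      rw [sum_sgn_dual hE, if_neg]
      exact fun h => hv (Subtype.ext ((hq1 _).1 h))
    · simp
  have h0 : S W1 0 = 2 ^ d₁ := by
    show ∑ v : W1, sgn 0 (q v) = _
    simp only [sgn, AddChar.zero_apply, if_true, Finset.sum_const, Finset.card_univ, nsmul_eq_mul,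
      mul_one, ← Nat.card_eq_fintype_card, hd₁]
    norm_num
  rw [← Finset.add_sum_erase _ _ (Finset.mem_univ (0 : AddChar (Additive E) ℂ)), h0] at htot
  -- parity
  have hpar : ∃ o : ℤ, ∑ ψ ∈ Finset.univ.erase (0 : AddChar (Additive E) ℂ), S W1 ψ =
      2 ^ c * o ∧ Odd o := by
    have hex : ∀ ψ : AddChar (Additive E) ℂ, ∃ ε : ℤ, ψ ≠ 0 → S W1 ψ = 2 ^ c * ε ∧ Odd ε := by
      intro ψ
      by_cases hψ : ψ = 0
      · exact ⟨0, fun h => absurd hψ h⟩
      · obtain ⟨c', hc', h⟩ := sq_eq_two_pow (hexact ψ hψ)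
        obtain rfl : c' = c := by omega
        rcases h with h | h
        · exact ⟨1, fun _ => ⟨by rw [h, mul_one], odd_one⟩⟩
        · exact ⟨-1, fun _ => ⟨by rw [h]; ring, odd_one.neg⟩⟩
    choose ε hε using hex
    refine ⟨∑ ψ ∈ Finset.univ.erase (0 : AddChar (Additive E) ℂ), ε ψ, ?_, ?_⟩
    · rw [Finset.mul_sum]
      exact Finset.sum_congr rfl fun ψ hψ => (hε ψ (Finset.ne_of_mem_erase hψ)).1
    · refine odd_sum _ _ (fun ψ hψ => (hε ψ (Finset.ne_of_mem_erase hψ)).2) ?_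
      rw [Finset.card_erase_of_mem (Finset.mem_univ _),
        Finset.card_univ, AddChar.card_eq, Fintype.card_congr Additive.toMul,
        ← Nat.card_eq_fintype_card, hn]
      exact Nat.Even.sub_odd Nat.one_le_two_pow (even_two.pow_of_ne_zero (by omega)) odd_one
  obtain ⟨o, ho, hoo⟩ := hpar
  rw [ho] at htot
  have hcn : c < n := by omega
  have hsplit : (2 : ℤ) ^ c * (2 ^ c + o) = 2 ^ c * 2 ^ (n - c) := by
    rw [← pow_add, Nat.add_sub_cancel' hcn.le, ← htot, hc, two_mul, pow_add]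
    ring
  have := mul_left_cancel₀ (by positivity) hsplit
  have he1 : Even ((2 : ℤ) ^ c) := even_two.pow_of_ne_zero (by omega)
  have he2 : Even ((2 : ℤ) ^ (n - c)) := even_two.pow_of_ne_zero (by omega)
  rw [← this] at he2
  exact Int.not_odd_iff_even.2 he2 (he1.add_odd hoo)

end Main

end CfsgLib.OneClass
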