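import Cfsg.Agent.OneClass.Basic
import Cfsg.Agent.OneClass.QuadFibre
import Cfsg.Agent.Solvable.CoprimeAct
import Cfsg.Agent.Fusion.HomocyclicTwo
import Cfsg.Agent.Kinf.Critical

/-!
# Solvable groups with one class of involutions

In a finite solvable group with trivial `O_{2'}` and one class of involutions, more than one in
number, every `2`-element lies in `O₂`.
-/

set_option autoImplicit false
set_option linter.style.haveILetI false
set_option linter.unusedSectionVars false

namespace CfsgLib.OneClass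

open Subgroup Pointwise CfsgLib.Solvable CfsgLib.SZ
open scoped commutatorElement

universe u

variable {G : Type u} [Group G] [Finite G]

/-- `E` is the subgroup of involutions of a group with one class of them and self-centralizing `O₂`. -/
structure Setting (E : Subgroup G) : Prop where
  mem_iff : ∀ x, x ∈ E ↔ x * x = 1
  le_core : E ≤ Cfsg.pCore 2 G
  central : E ≤ centralizer (Cfsg.pCore 2 G : Set G)
  normal : E.Normal
  trans : ∀ x ∈ E, ∀ y ∈ E, x ≠ 1 → y ≠ 1 → ∃ g : G, g * x * g⁻¹ = y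
  two : ∃ x ∈ E, ∃ y ∈ E, x ≠ 1 ∧ y ≠ 1 ∧ x ≠ y
  selfCent : centralizer (Cfsg.pCore 2 G : Set G) ≤ Cfsg.pCore 2 G

variable {E : Subgroup G}

theorem Setting.commutative (h : Setting E) : ∀ a ∈ E, ∀ b ∈ E, a * b = b * a :=
  fun a ha _ hb => mem_centralizer_iff.1 (h.central hb) a (h.le_core ha)

theorem Setting.comm_core (h : Setting E) {a e : G} (ha : a ∈ Cfsg.pCore 2 G) (he : e ∈ E) :
    a * e = e * a :=
  mem_centralizer_iff.1 (h.central he) a ha

/-- A `2`-element fixed by an element acting fixed-point-freely on `E` is trivial. -/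
theorem Setting.no_fixed (h : Setting E) {g : G} (hg : ∀ e ∈ E, g * e * g⁻¹ = e → e = 1) {x : G}
    {k : ℕ} (hx : x ^ 2 ^ k = 1) (hfix : g * x * g⁻¹ = x) : x = 1 := by
  induction k with
  | zero => rwa [pow_zero, pow_one] at hx
  | succ k ih =>
    refine ih (hg _ ((h.mem_iff _).2 ?_) (by rw [← conj_pow, hfix]))
    rw [← pow_two, ← pow_mul, ← pow_succ]
    exact hx

theorem mem_core_pow {x : G} (hx : x ∈ Cfsg.pCore 2 G) : ∃ k, x ^ 2 ^ k = 1 := by
  obtain ⟨k, hk⟩ := isPGroup_pCore (G := G) 2 ⟨x, hx⟩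
  exact ⟨k, congrArg Subtype.val hk⟩

/-- The quadratic module: an action of `G` in which non-identity elements of odd order centralising
`E` are fixed-point-free. -/
theorem Setting.exists_module (h : Setting E) :
    ∃ (W : Type u) (_ : CommGroup W) (_ : Finite W) (ρ : G →* MulAut W), (∀ w : W, w * w = 1) ∧
      ∀ g ∈ centralizer (E : Set G), Odd (orderOf g) → g ≠ 1 →
        ρ g ≠ 1 ∧ ∀ w : W, ρ g w = w → w = 1 := by
  haveI := h.normal
  haveI : Fact (Nat.Prime 2) := ⟨Nat.prime_two⟩
  set F := Cfsg.pCore 2 G with hFdef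
  have hF2 : IsPGroup 2 F := isPGroup_pCore 2
  obtain ⟨H, hHc, hHp, hHz, hHs⟩ := CfsgLib.Kinf.exists_critical hF2
  haveI := hHc
  set C₀ := H.map F.subtype with hC₀
  haveI : C₀.Normal := ConjAct.normal_of_characteristic_of_normal
  have hC₀F : C₀ ≤ F := map_subtype_le H
  have hmemC : ∀ x (hx : x ∈ F), x ∈ C₀ ↔ (⟨x, hx⟩ : F) ∈ H := fun x hx =>
    ⟨fun ⟨y, hy, e⟩ => (Subtype.ext e : y = ⟨x, hx⟩) ▸ hy, fun hy => ⟨_, hy, rfl⟩⟩
  set A := C₀ ⊓ centralizer (C₀ : Set G) with hA
  have hcent : ∀ x (hx : x ∈ F), (⟨x, hx⟩ : F) ∈ centralizer (H : Set F) ↔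
      x ∈ centralizer (C₀ : Set G) := by
    intro x hx
    constructor
    · intro hc
      refine mem_centralizer_iff.2 fun y hy => ?_
      exact congrArg Subtype.val (mem_centralizer_iff.1 hc ⟨y, hC₀F hy⟩ ((hmemC y _).1 hy))
    · intro hc
      exact mem_centralizer_iff.2 fun y hy => Subtype.ext
        (mem_centralizer_iff.1 hc y ((hmemC y y.2).2 hy))
  have hsq : ∀ x ∈ C₀, x * x ∈ A := by
    intro x hx
    refine ⟨mul_mem hx hx, ?_⟩
    rw [← pow_two]
    exact (hcent _ (pow_mem (hC₀F hx) 2)).1 (hHp _ ((hmemC x (hC₀F hx)).1 hx))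
  have hcomm : ∀ x ∈ C₀, ∀ y ∈ F, ⁅x, y⁆ ∈ A := by
    intro x hx y hy
    have h1 := hHz (commutator_mem_commutator ((hmemC x (hC₀F hx)).1 hx) (mem_top (⟨y, hy⟩ : F)))
    exact ⟨⟨_, h1.1, rfl⟩, (hcent _ _).1 h1.2⟩
  have hAc : ∀ a ∈ A, ∀ x ∈ C₀, x * a = a * x := fun a ha x hx => mem_centralizer_iff.1 ha.2 x hx
  have hcsq : ∀ x ∈ C₀, ∀ y ∈ C₀, ⁅x, y⁆ ∈ E := by
    intro x hx y hy
    have hc := hcomm x hx y (hC₀F hy)
    refine (h.mem_iff _).2 ?_
    have e : x * y * x⁻¹ = ⁅x, y⁆ * y := by rw [commutatorElement_def]; group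
    have e2 : x * (y * y) * x⁻¹ = y * y := by
      rw [hAc _ (hsq y hy) x hx]; group
    rw [show x * (y * y) * x⁻¹ = (x * y * x⁻¹) * (x * y * x⁻¹) by group, e,
      show ⁅x, y⁆ * y * (⁅x, y⁆ * y) = ⁅x, y⁆ * (y * ⁅x, y⁆) * y by group, hAc _ hc y hy] at e2
    exact mul_right_cancel (b := y * y) (by rw [one_mul]; nth_rewrite 2 [← e2]; group)
  -- the subgroup of elements with square in `E`
  have hformula : ∀ x ∈ C₀, ∀ y ∈ C₀, x * y * (x * y) = x * x * ⁅x⁻¹, y⁆ * (y * y) := by
    intro x _ y _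
    rw [commutatorElement_def]; group
  let U : Subgroup G :=
    { carrier := {x | x ∈ C₀ ∧ x * x ∈ E}
      one_mem' := ⟨one_mem _, by rw [one_mul]; exact one_mem _⟩
      mul_mem' := fun {x y} hx hy => ⟨mul_mem hx.1 hy.1, by
        rw [hformula x hx.1 y hy.1]
        exact mul_mem (mul_mem hx.2 (hcsq _ (inv_mem hx.1) _ hy.1)) hy.2⟩
      inv_mem' := fun {x} hx => ⟨inv_mem hx.1, by rw [← mul_inv_rev]; exact inv_mem hx.2⟩ }
  have hUC : U ≤ C₀ := fun x hx => hx.1
  haveI : U.Normal := ⟨fun x hx g => ⟨(inferInstance : C₀.Normal).conj_mem x hx.1 g, by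
    rw [show g * x * g⁻¹ * (g * x * g⁻¹) = g * (x * x) * g⁻¹ by group]
    exact h.normal.conj_mem _ hx.2 g⟩⟩
  haveI : Group.IsNilpotent F := hF2.isNilpotent
  set E' := E.subgroupOf U with hE'
  haveI : E'.Normal := inferInstance
  have hWcomm : ∀ a b : ↥U ⧸ E', a * b = b * a := by
    intro a b
    induction a using QuotientGroup.induction_on with | H x => ?_
    induction b using QuotientGroup.induction_on with | H y => ?_
    rw [← QuotientGroup.mk_mul, ← QuotientGroup.mk_mul, QuotientGroup.eq, mem_subgroupOf]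
    have := hcsq _ (inv_mem (hUC y.2)) _ (inv_mem (hUC x.2))
    rw [commutatorElement_def, inv_inv, inv_inv] at this
    simpa [mul_assoc] using this
  letI : CommGroup (↥U ⧸ E') := { (inferInstance : Group (↥U ⧸ E')) with mul_comm := hWcomm }
  letI : CommGroup E :=
    { (inferInstance : Group E) with
      mul_comm := fun a b => Subtype.ext (h.commutative a a.2 b b.2) }
  have hW2 : ∀ w : ↥U ⧸ E', w * w = 1 := by
    intro w
    induction w using QuotientGroup.induction_on with | H x => ?_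
    rw [← QuotientGroup.mk_mul, QuotientGroup.eq_one_iff, mem_subgroupOf]
    exact x.2.2
  have hE2 : ∀ e : E, e * e = 1 := fun e => Subtype.ext ((h.mem_iff _).1 e.2)
  let q : ↥U ⧸ E' → E := fun w =>
    Quotient.liftOn' w (fun x => ⟨(x : G) * x, x.2.2⟩) (by
      intro x y hxy
      rw [QuotientGroup.leftRel_apply, mem_subgroupOf] at hxy
      refine Subtype.ext ?_
      set e : G := ((x⁻¹ * y : U) : G) with he
      have hy : (y : G) = x * e := by rw [he]; push_cast; group
      show (x : G) * x = y * y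
      have hee : e * e = 1 := (h.mem_iff _).1 hxy
      have hxe : (x : G) * e = e * x := h.comm_core (hC₀F (hUC x.2)) hxy
      rw [hy]
      nth_rewrite 2 [hxe]
      rw [show (x : G) * e * (e * x) = x * (e * e) * x by group, hee, mul_one])
  have hqmk : ∀ x : U, (q (x : ↥U ⧸ E') : G) = (x : G) * x := fun x => rfl
  let β : ↥U ⧸ E' → ↥U ⧸ E' → E := fun a b => q (a * b) * q a * q b
  have hq : ∀ a b, q (a * b) = q a * q b * β a b := fun a b => by
    show q (a * b) = q a * q b * (q (a * b) * q a * q b)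
    rw [show q a * q b * (q (a * b) * q a * q b) = q (a * b) * (q a * q a) * (q b * q b) by ac_rfl,
      hE2, hE2, mul_one, mul_one]
  have hβmk : ∀ x y : U, (β (x : ↥U ⧸ E') y : G) = ⁅(x : G)⁻¹, (y : G)⁆ := by
    intro x y
    show ((q ((x : ↥U ⧸ E') * y) * q x * q y : E) : G) = _
    rw [← QuotientGroup.mk_mul, coe_mul, coe_mul, hqmk, hqmk, hqmk, coe_mul,
      hformula _ (hUC x.2) _ (hUC y.2)]
    set c := ⁅(x : G)⁻¹, (y : G)⁆ with hc
    have hcE : c ∈ E := hcsq _ (inv_mem (hUC x.2)) _ (hUC y.2)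
    have hxx : (x : G) * x ∈ E := x.2.2
    have hyy : (y : G) * y ∈ E := y.2.2
    have key : ∀ a c b : E, a * c * b * a * b = c := fun a c b => by
      rw [show a * c * b * a * b = c * (a * a) * (b * b) by ac_rfl, hE2, hE2, mul_one, mul_one]
    exact congrArg Subtype.val (key ⟨_, hxx⟩ ⟨c, hcE⟩ ⟨_, hyy⟩)
  have hβ : ∀ a a' b, β (a * a') b = β a b * β a' b := by
    intro a a' b
    induction a using QuotientGroup.induction_on with | H x => ?_
    induction a' using QuotientGroup.induction_on with | H x' => ?_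
    induction b using QuotientGroup.induction_on with | H y => ?_
    refine Subtype.ext ?_
    rw [← QuotientGroup.mk_mul, hβmk, coe_mul E, hβmk, hβmk, coe_mul U]
    have hc := hcomm _ (inv_mem (hUC x.2)) _ (hC₀F (hUC y.2))
    rw [show ⁅((x : G) * x')⁻¹, (y : G)⁆ =
      ((x' : G)⁻¹ * ⁅(x : G)⁻¹, (y : G)⁆ * x') * ⁅(x' : G)⁻¹, (y : G)⁆ by
        simp only [commutatorElement_def]; group]
    rw [hAc _ hc _ (inv_mem (hUC x'.2)), inv_mul_cancel_right]
  have hq1 : ∀ w, q w = 1 ↔ w = 1 := by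
    intro w
    induction w using QuotientGroup.induction_on with | H x => ?_
    rw [QuotientGroup.eq_one_iff, mem_subgroupOf, h.mem_iff, Subtype.ext_iff, hqmk, OneMemClass.coe_one]
  let σ : G →* MulAut U := MulAut.conjNormal
  have hσ : ∀ g, E'.map (σ g).toMonoidHom = E' := by
    intro g
    refine Subgroup.ext fun x => ⟨?_, fun hx => ?_⟩
    · rintro ⟨y, hy, rfl⟩
      exact h.normal.conj_mem _ hy g
    · refine ⟨σ g⁻¹ x, h.normal.conj_mem _ hx g⁻¹, ?_⟩
      show σ g (σ g⁻¹ x) = x
      rw [← MulAut.mul_apply, ← map_mul, mul_inv_cancel, map_one, MulAut.one_apply]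
  let ρ : G →* MulAut (↥U ⧸ E') :=
    { toFun := fun g => QuotientGroup.congr E' E' (σ g) (hσ g)
      map_one' := MulEquiv.ext fun w => by
        induction w using QuotientGroup.induction_on with | H x => ?_
        show ((σ 1 x : U) : ↥U ⧸ E') = _
        rw [map_one]; rfl
      map_mul' := fun g g' => MulEquiv.ext fun w => by
        induction w using QuotientGroup.induction_on with | H x => ?_
        show ((σ (g * g') x : U) : ↥U ⧸ E') = _
        rw [map_mul]; rfl }
  have hρq : ∀ g w, (q (ρ g w) : G) = g * (q w : G) * g⁻¹ := by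
    intro g w
    induction w using QuotientGroup.induction_on with | H x => ?_
    show (q ((σ g x : U) : ↥U ⧸ E') : G) = _
    rw [hqmk, hqmk]
    show g * x * g⁻¹ * (g * x * g⁻¹) = g * (x * x) * g⁻¹
    group
  have hfib : ∀ e e' : E, e ≠ 1 → e' ≠ 1 →
      Nat.card {w // q w = e} = Nat.card {w // q w = e'} := by
    intro e e' he he'
    obtain ⟨g, hg⟩ := h.trans e e.2 e' e'.2 (by simpa using he) (by simpa using he')
    refine Nat.card_congr ((ρ g).toEquiv.subtypeEquiv fun w => ?_)
    show q w = e ↔ q (ρ g w) = e'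
    rw [Subtype.ext_iff, Subtype.ext_iff, hρq, ← hg]
    exact ⟨fun hh => by rw [hh], fun hh => mul_left_cancel (mul_right_cancel hh)⟩
  refine ⟨↥U ⧸ E', inferInstance, inferInstance, ρ, hW2, ?_⟩
  intro g hgE hodd hg1
  have hfixE : ∀ e ∈ E, g * e * g⁻¹ = e := fun e he => by
    rw [← mem_centralizer_iff.1 hgE e he]; group
  have hne : ρ g ≠ 1 := by
    intro hρ
    -- `g` centralises `U`
    have hU : ∀ u ∈ U, g * u * g⁻¹ = u := by
      intro u hu
      have h1 : ((σ g ⟨u, hu⟩ : U) : ↥U ⧸ E') = ((⟨u, hu⟩ : U) : ↥U ⧸ E') :=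
        DFunLike.congr_fun hρ ((⟨u, hu⟩ : U) : ↥U ⧸ E')
      rw [eq_comm, QuotientGroup.eq, mem_subgroupOf] at h1
      change u⁻¹ * (g * u * g⁻¹) ∈ E at h1
      have := eq_one_of_coset (x := u) hodd (mul_inv_cancel_left u (g * u * g⁻¹)).symm (hfixE _ h1)
        (k := 1) (by rw [pow_one, pow_two]; exact (h.mem_iff _).1 h1)
      exact (inv_mul_eq_one.1 this).symm
    -- `g` centralises `A`
    have hAfix : ∀ a ∈ A, g * a * g⁻¹ = a := by
      have hg' : g ∈ centralizer (A : Set G) := by
        refine CfsgLib.HomocyclicTwo.mem_centralizer_of_fix (P := A)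
          (fun a ha b hb => hAc b hb a ha.1) (hF2.to_le (inf_le_left.trans hC₀F)) ?_ hodd
          (by rw [pow_orderOf_eq_one]; exact one_mem _)
          (fun x _ hx2 => hfixE x ((h.mem_iff x).2 (by rw [← pow_two, ← hx2, pow_orderOf_eq_one])))
        haveI : A.Normal := by rw [hA]; infer_instance
        rw [normalizer_eq_top]
        exact mem_top _
      intro a ha
      rw [← mem_centralizer_iff.1 hg' a ha]; group
    -- `g` centralises `C₀`
    have hC : ∀ x ∈ C₀, g * x * g⁻¹ = x := by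
      intro x hx
      set y := x⁻¹ * (g * x * g⁻¹) with hy
      have hyC : y ∈ C₀ := mul_mem (inv_mem hx) ((inferInstance : C₀.Normal).conj_mem x hx g)
      have hyE : y * y ∈ E := by
        have h1 : (g * x * g⁻¹) * (g * x * g⁻¹) = x * x := by
          rw [show g * x * g⁻¹ * (g * x * g⁻¹) = g * (x * x) * g⁻¹ by group, hAfix _ (hsq x hx)]
        have h2 : ⁅x, y⁆ = (y * y)⁻¹ := by
          have h3 : y * x * y = x := by
            refine mul_left_cancel (a := x) ?_
            rw [← h1, hy]; group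
          have h5 : x * y = y⁻¹ * x := by
            nth_rewrite 2 [← h3]
            group
          rw [commutatorElement_def, h5]
          group
        have h4 := inv_mem (hcsq x hx y hyC)
        rwa [h2, inv_inv] at h4
      obtain ⟨k, hk⟩ := mem_core_pow (hC₀F hyC)
      have := eq_one_of_coset (x := x) hodd (by rw [hy]; group) (hU y ⟨hyC, hyE⟩) hk
      exact (inv_mul_eq_one.1 this).symm
    -- `g` centralises `F`
    have hφ : (MulAut.conjNormal g : MulAut F) = 1 := by
      refine CfsgLib.Kinf.aut_eq_one_of_critical (T := F) (A := C₀) hF2 hC₀F ?_ ?_ _ ?_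
        (fun a ha => Subtype.ext (hC a ha))
      · rw [commutator_comm]
        exact commutator_le.2 fun x hx y hy => hcomm x hx y hy
      · refine le_antisymm (fun x hx => ⟨?_, hx.2⟩) (fun x hx => ⟨hC₀F hx.1, hx.2⟩)
        exact (hmemC x hx.1).2 (hHs ((hcent x hx.1).2 hx.2))
      · exact (Nat.coprime_two_right.2 (hodd.of_dvd_nat (orderOf_map_dvd _ g)))
    have hgF : g ∈ F := h.selfCent (mem_centralizer_iff.2 fun x hx => by
      have := congrArg Subtype.val (DFunLike.congr_fun hφ ⟨x, hx⟩)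
      change g * x * g⁻¹ = x at this
      nth_rewrite 1 [← this]
      group)
    obtain ⟨k, hk⟩ := mem_core_pow hgF
    exact hg1 (eq_one_of_odd_of_two_pow hodd hk)
  refine ⟨hne, fun w hw => by_contra fun hw1 => hne ?_⟩
  exact eq_one_of_fix hW2 hE2 q β hq hβ hq1 hfib (ρ g)
    (fun v => Subtype.ext (by rw [hρq, hfixE _ (q v).2]))
    (hodd.of_dvd_nat (orderOf_map_dvd ρ g)) hw1 hw

/-- An odd-order prime power subgroup of `C(E)` is cyclic. -/
theorem Setting.isCyclic_of_le (h : Setting E) {q : ℕ} [Fact q.Prime] (hq : q ≠ 2) {Q : Subgroup G}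
    (hQ : IsPGroup q Q) (hQE : Q ≤ centralizer (E : Set G)) : IsCyclic Q := by
  obtain ⟨W, _, _, ρ, hW, hρ⟩ := h.exists_module
  have hfree : ∀ g : Q, g ≠ 1 → ρ (g : G) ≠ 1 ∧ ∀ w, ρ (g : G) w = w → w = 1 := fun g hg =>
    hρ g (hQE g.2) (odd_of_isPGroup hq hQ g.2) (by simpa using hg)
  have hinj : Function.Injective (ρ.comp Q.subtype) := (injective_iff_map_eq_one _).2 fun g hg =>
    by_contra fun hne => (hfree g hne).1 hg
  refine (semiregular_of_constant hq hQ hW (ρ.comp Q.subtype) hinj fun a b ha hb => ?_).1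
  have : ∀ c : W, c ≠ 1 → Nat.card {g : Q // ρ.comp Q.subtype g c = c} = 1 := by
    intro c hc
    refine Nat.card_eq_one_iff_unique.2 ⟨⟨fun g g' => Subtype.ext ?_⟩, ⟨⟨1, by simp⟩⟩⟩
    have h1 : ∀ x : {g : Q // ρ.comp Q.subtype g c = c}, (x : Q) = 1 := fun x =>
      by_contra fun hne => hc ((hfree _ hne).2 c x.2)
    rw [h1, h1]
  rw [this a ha, this b hb]

section Quot

variable (h : Setting E)
include h

/-- The cores of the group induced on `E`: semiregular, and trivial for the prime `2`. -/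
theorem Setting.cores [E.Normal] {r : ℕ} [Fact r.Prime]
    {a : (MulAut.conjNormal : G →* MulAut E).range}
    (ha : a ∈ Cfsg.pCore r (MulAut.conjNormal : G →* MulAut E).range) (ha1 : a ≠ 1) :
    r ≠ 2 ∧ ∀ e : E, (a : MulAut E) e = e → e = 1 := by
  have htr : ∀ e e' : E, e ≠ 1 → e' ≠ 1 → ∃ t : (MulAut.conjNormal : G →* MulAut E).range, (t : MulAut E) e = e' := by
    intro e e' he he'
    obtain ⟨g, hg⟩ := h.trans e e.2 e' e'.2 (by simpa using he) (by simpa using he')
    exact ⟨(MulAut.conjNormal : G →* MulAut E).rangeRestrict g, Subtype.ext hg⟩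
  have hr : r ≠ 2 := by
    rintro rfl
    letI : MulAction (Cfsg.pCore 2 (MulAut.conjNormal : G →* MulAut E).range) E :=
      { smul := fun t e => ((t : (MulAut.conjNormal : G →* MulAut E).range) : MulAut E) e
        one_smul := fun e => rfl
        mul_smul := fun s t e => rfl }
    obtain ⟨x, hx, -, -, hx1, -, -⟩ := h.two
    haveI : Nontrivial E := ⟨⟨x, hx⟩, 1, fun e => hx1 (congrArg Subtype.val e)⟩
    obtain ⟨n, hn⟩ := card_eq_two_pow (A := E) fun e => Subtype.ext ((h.mem_iff _).1 e.2)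
    have hn0 : n ≠ 0 := by
      rintro rfl
      exact (Finite.one_lt_card (α := E)).ne' (by simpa using hn)
    obtain ⟨b, hb, hb1⟩ := (isPGroup_pCore (G := (MulAut.conjNormal : G →* MulAut E).range) 2 : IsPGroup 2 (Cfsg.pCore 2 (MulAut.conjNormal : G →* MulAut E).range))
      |>.exists_fixed_point_of_prime_dvd_card_of_fixed_point E (hn ▸ dvd_pow_self 2 hn0)
      (a := (1 : E)) (fun t => map_one _)
    refine ha1 (Subtype.ext (MulEquiv.ext fun e => ?_))
    show (a : MulAut E) e = e
    by_cases he : e = 1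
    · rw [he, map_one]
    obtain ⟨t, ht⟩ := htr b e (Ne.symm hb1) he
    have hc : t⁻¹ * a * t ∈ (Cfsg.pCore 2 (MulAut.conjNormal : G →* MulAut E).range) := by
      simpa using (inferInstance : (Cfsg.pCore 2 (MulAut.conjNormal : G →* MulAut E).range).Normal).conj_mem a ha t⁻¹
    have h1 : ((t⁻¹ * a * t : (MulAut.conjNormal : G →* MulAut E).range) : MulAut E) b = b := hb ⟨_, hc⟩
    rw [coe_mul, coe_mul, coe_inv, MulAut.mul_apply, MulAut.mul_apply, ht] at h1
    have h2 := congrArg (t : MulAut E) h1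
    rw [← MulAut.mul_apply, mul_inv_cancel, MulAut.one_apply, ht] at h2
    exact h2
  refine ⟨hr, ?_⟩
  letI : CommGroup E :=
    { (inferInstance : Group E) with
      mul_comm := fun a b => Subtype.ext (h.commutative a a.2 b b.2) }
  refine (semiregular_of_constant hr (isPGroup_pCore (G := (MulAut.conjNormal : G →* MulAut E).range) r)
    (fun e => Subtype.ext ((h.mem_iff _).1 e.2)) ((MulAut.conjNormal : G →* MulAut E).range.subtype.comp (Cfsg.pCore r (MulAut.conjNormal : G →* MulAut E).range).subtype)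
    (Subtype.val_injective.comp Subtype.val_injective) ?_).2 ⟨a, ha⟩ (by simpa using ha1)
  intro e e' he he'
  obtain ⟨t, ht⟩ := htr e e' he he'
  refine Nat.card_congr ((MulAut.conjNormal t : MulAut (Cfsg.pCore r (MulAut.conjNormal : G →* MulAut E).range)).toEquiv.subtypeEquiv fun g => ?_)
  show ((g : (MulAut.conjNormal : G →* MulAut E).range) : MulAut E) e = e ↔
    ((t * (g : (MulAut.conjNormal : G →* MulAut E).range) * t⁻¹ : (MulAut.conjNormal : G →* MulAut E).range) : MulAut E) e' = e'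
  rw [coe_mul, coe_mul, coe_inv, ← ht]
  simp only [MulAut.mul_apply, MulAut.inv_apply_self]
  exact ⟨fun hh => by rw [hh], fun hh => (t : MulAut E).injective hh⟩

theorem Setting.le_centralizer : Cfsg.pCore 2 G ≤ centralizer (E : Set G) :=
  fun _ hx => mem_centralizer_iff.2 fun _ he => (h.comm_core hx he).symm

variable [Group.IsSolvable G]

/-- Some element of odd order is fixed-point-free on `E` and normalises a given subgroup whose
normaliser supplements `C(E)`. -/
theorem Setting.exists_fpf {P : Subgroup G}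
    (hP : normalizer (P : Set G) ⊔ centralizer (E : Set G) = ⊤) :
    ∃ k ∈ normalizer (P : Set G), Odd (orderOf k) ∧ ∀ e ∈ E, k * e * k⁻¹ = e → e = 1 := by
  haveI := h.normal
  haveI : (centralizer (E : Set G)).Normal := inferInstance
  set φ := (MulAut.conjNormal : G →* MulAut E)
  haveI : Group.IsSolvable φ.range := Group.isSolvable_of_surjective φ.rangeRestrict_surjective
  obtain ⟨x, hx, y, hy, hx1, hy1, hxy⟩ := h.two
  obtain ⟨g, hg⟩ := h.trans x hx y hy hx1 hy1
  haveI : Nontrivial φ.range := ⟨φ.rangeRestrict g, 1, fun e => hxy (by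
    have := congrArg Subtype.val (DFunLike.congr_fun (congrArg Subtype.val e) (⟨x, hx⟩ : E))
    change g * x * g⁻¹ = x at this
    rw [← hg, this])⟩
  obtain ⟨r, hr, hR⟩ := exists_core_ne_bot (G := φ.range)
  haveI := Fact.mk hr
  obtain ⟨⟨a, ha⟩, ha1'⟩ := ne_bot_iff_exists_ne_one.1 hR
  have ha1 : a ≠ 1 := fun e => ha1' (Subtype.ext e)
  clear ha1'
  obtain ⟨g₀, rfl⟩ := φ.rangeRestrict_surjective a
  obtain ⟨n, hn, c, hc, hnc⟩ :=
    mem_sup_of_normal_right.1 (hP.symm ▸ mem_top g₀ : g₀ ∈ normalizer (P : Set G) ⊔ _)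
  have hφc : φ.rangeRestrict c = 1 := Subtype.ext (MulEquiv.ext fun e => Subtype.ext (by
    show c * e * c⁻¹ = e
    rw [← mem_centralizer_iff.1 hc e e.2]; group))
  rw [← hnc, map_mul, hφc, mul_one] at ha ha1
  obtain ⟨j, hj⟩ := exists_odd_pow n
  have hodd := odd_of_isPGroup (h.cores ha ha1).1 (isPGroup_pCore (G := φ.range) r) ha
  have hk : φ.rangeRestrict (n ^ 2 ^ j) ≠ 1 := by
    rw [map_pow]; exact pow_two_pow_ne_one ha1 hodd j
  have hfix := (h.cores (r := r) (a := φ.rangeRestrict (n ^ 2 ^ j))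
    (by rw [map_pow]; exact pow_mem ha _) hk).2
  exact ⟨n ^ 2 ^ j, pow_mem hn _, hj, fun e he hh =>
    congrArg Subtype.val (hfix ⟨e, he⟩ (Subtype.ext hh))⟩

/-- `2`-elements centralising `E` lie in `O₂`. -/
theorem Setting.mem_core_of_centralizer {x : G} {j : ℕ} (hxC : x ∈ centralizer (E : Set G))
    (hx : x ^ 2 ^ j = 1) : x ∈ Cfsg.pCore 2 G := by
  haveI := h.normal
  haveI : Fact (Nat.Prime 2) := ⟨Nat.prime_two⟩
  set C := centralizer (E : Set G) with hCdef
  set F := Cfsg.pCore 2 G with hFdef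
  haveI : C.Normal := inferInstance
  have hxp : IsPGroup 2 (zpowers (⟨x, hxC⟩ : C)) := by
    obtain ⟨i, -, hi⟩ := (Nat.dvd_prime_pow Nat.prime_two).1
      (orderOf_dvd_of_pow_eq_one (x := (⟨x, hxC⟩ : C)) (n := 2 ^ j) (Subtype.ext (by simpa using hx)))
    exact IsPGroup.of_card (by rw [Nat.card_zpowers, hi])
  obtain ⟨P, hP⟩ := hxp.exists_le_sylow
  set Pg := (P : Subgroup C).map C.subtype with hPg
  have hxP : x ∈ Pg := ⟨_, hP (mem_zpowers _), rfl⟩
  have hFP : F ≤ Pg := fun y hy => ⟨⟨y, h.le_centralizer hy⟩,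
    CfsgLib.Fitting.pCore_le_sylow P (le_pCore 2 (Normal.comap inferInstance C.subtype)
      ((isPGroup_pCore (G := G) 2).comap_subtype (K := C))
      (show (⟨y, h.le_centralizer hy⟩ : C) ∈ F.comap C.subtype from hy)), rfl⟩
  have hPg2 : IsPGroup 2 Pg := P.2.map _
  obtain ⟨k, hkn, hkodd, hkfix⟩ := h.exists_fpf (P := Pg) (Sylow.normalizer_sup_eq_top P)
  let f := QuotientGroup.mk' F
  have hf : Function.Surjective f := QuotientGroup.mk'_surjective F
  set K := C.map f
  haveI hKn : K.Normal := Normal.map inferInstance f hf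
  have hK2 : Cfsg.pCore 2 K = ⊥ := by
    haveI := pCore_characteristic (G := K) 2
    have hle : (Cfsg.pCore 2 K).map K.subtype ≤ Cfsg.pCore 2 (G ⧸ F) :=
      le_pCore 2 ConjAct.normal_of_characteristic_of_normal ((isPGroup_pCore 2).map _)
    exact (map_eq_bot_iff_of_injective _ K.subtype_injective).1
      (le_bot_iff.1 (hle.trans_eq (pCore_quotient_pCore 2)))
  have hcyc : ∀ q : ℕ, q.Prime → IsCyclic ((Cfsg.pCore q K).map K.subtype) := by
    intro q hq
    haveI := Fact.mk hq
    by_cases hq2 : q = 2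
    · subst hq2
      rw [hK2, Subgroup.map_bot]
      infer_instance
    set T := (Cfsg.pCore q K).map K.subtype with hT
    have hTp : IsPGroup q T := (isPGroup_pCore q).map _
    have hHC : T.comap f ≤ C := by
      refine (comap_mono (map_subtype_le _)).trans ?_
      rw [comap_map_eq, QuotientGroup.ker_mk']
      exact sup_le le_rfl h.le_centralizer
    let f' := f.subgroupComap T
    have hf' : Function.Surjective f' := f.subgroupComap_surjective_of_surjective T hf
    let Q : Sylow q (T.comap f) := default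
    have hQT : ((Q : Subgroup (T.comap f)).map f') = ⊤ := by
      have := (Q.mapSurjective hf').3 (hTp.of_equiv topEquiv.symm) le_top
      exact this.symm
    haveI : IsCyclic ((Q : Subgroup (T.comap f)).map (T.comap f).subtype) :=
      h.isCyclic_of_le hq2 (Q.2.map _) ((map_subtype_le _).trans hHC)
    haveI : IsCyclic (Q : Subgroup (T.comap f)) :=
      isCyclic_of_surjective _ ((Q : Subgroup (T.comap f)).equivMapOfInjective _
        (T.comap f).subtype_injective).symm.surjective
    refine isCyclic_of_surjective (f'.comp (Q : Subgroup (T.comap f)).subtype) fun t => ?_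
    obtain ⟨z, hz, hzt⟩ := (hQT.symm ▸ mem_top t : t ∈ (Q : Subgroup (T.comap f)).map f')
    exact ⟨⟨z, hz⟩, hzt⟩
  -- `k` centralises `Pg` modulo `F`
  have hcomm : ∀ p ∈ Pg, ⁅p, k⁆ ∈ F := by
    intro p hp
    have hpk : ⁅p, k⁆ ∈ Pg := by
      rw [commutatorElement_def, mul_assoc, mul_assoc, ← mul_assoc k]
      exact mul_mem hp ((mem_normalizer_iff.1 hkn _).1 (inv_mem hp))
    obtain ⟨i, hi⟩ := hPg2 ⟨_, hpk⟩
    haveI : Group.IsSolvable K := inferInstance
    have h1 : (⟨f ⁅p, k⁆, mem_map_of_mem f (map_subtype_le _ hpk)⟩ : K) = 1 := by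
      refine eq_one_of_centralizes_cores hK2 (k := i) (Subtype.ext ?_) fun q hq t ht => Subtype.ext ?_
      · rw [SubmonoidClass.coe_pow]
        show f ⁅p, k⁆ ^ 2 ^ i = 1
        rw [← map_pow, show ⁅p, k⁆ ^ 2 ^ i = 1 from congrArg Subtype.val hi, map_one]
      · haveI := pCore_characteristic (G := K) q
        show (t : G ⧸ F) * f ⁅p, k⁆ = f ⁅p, k⁆ * (t : G ⧸ F)
        rw [map_commutatorElement]
        exact commutator_centralizes_cyclic (hcyc q hq) ConjAct.normal_of_characteristic_of_normal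
          _ _ ⟨t, ht, rfl⟩
    exact (QuotientGroup.eq_one_iff _).1 (congrArg Subtype.val h1)
  have hmain : Pg ≤ F := by
    intro p hp
    have hcop : (Nat.card (zpowers k)).Coprime (Nat.card Pg) := by
      obtain ⟨i, hi⟩ := IsPGroup.iff_card.1 hPg2
      rw [Nat.card_zpowers, hi]
      exact (Nat.coprime_two_right.2 hkodd).pow_right i
    have hA : zpowers k ≤ normalizer (Pg : Set G) := (zpowers_le).2 hkn
    obtain ⟨c, hc, hpc⟩ := CfsgLib.CoprimeAct.exists_centralizing_mem_coset hA hcop hFP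
      (by rw [normalizer_eq_top]; exact le_top) (Or.inl inferInstance) hp (fun a ha => by
        obtain ⟨i, rfl⟩ := mem_zpowers_iff.1 ha
        rw [← QuotientGroup.eq_one_iff]
        show f (p⁻¹ * (k ^ i * p * (k ^ i)⁻¹)) = 1
        have hpk : Commute (f p) (f k) := by
          refine commutatorElement_eq_one_iff_mul_comm.1 ?_
          rw [← map_commutatorElement]
          exact (QuotientGroup.eq_one_iff _).2 (hcomm p hp)
        rw [map_mul, map_mul, map_mul, map_inv, map_inv, map_zpow, ← (hpk.zpow_right i).eq]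
        group)
    obtain ⟨i, hi⟩ := hPg2 ⟨c, hc.1⟩
    have hc1 := h.no_fixed hkfix (x := c) (k := i) (congrArg Subtype.val hi)
      (by rw [mem_centralizer_iff.1 hc.2 k (mem_zpowers k)]; group)
    subst hc1
    rw [mul_one] at hpc
    exact inv_mem_iff.1 hpc
  exact hmain hxP

/-- All `2`-elements lie in `O₂`. -/
theorem Setting.mem_core {x : G} {j : ℕ} (hx : x ^ 2 ^ j = 1) : x ∈ Cfsg.pCore 2 G := by
  haveI := h.normal
  haveI : Fact (Nat.Prime 2) := ⟨Nat.prime_two⟩
  induction j generalizing x with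
  | zero => rw [pow_zero, pow_one] at hx; rw [hx]; exact one_mem _
  | succ j ih =>
    set F := Cfsg.pCore 2 G with hFdef
    have hx2 : x * x ∈ F := ih (by rw [← pow_two, ← pow_mul, ← pow_succ']; exact hx)
    by_contra hxF
    have hxC : x ∉ centralizer (E : Set G) := fun hc => hxF (h.mem_core_of_centralizer hc hx)
    set φ := (MulAut.conjNormal : G →* MulAut E)
    haveI : Group.IsSolvable φ.range := Group.isSolvable_of_surjective φ.rangeRestrict_surjective
    obtain ⟨r, hr, t, ht, hne⟩ : ∃ r : ℕ, r.Prime ∧ ∃ t ∈ Cfsg.pCore r φ.range,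
        t * φ.rangeRestrict x ≠ φ.rangeRestrict x * t := by
      by_contra hall
      push Not at hall
      have hO : Cfsg.pCore 2 φ.range = ⊥ := (eq_bot_iff_forall _).2 fun a ha =>
        by_contra fun ha1 => (h.cores ha ha1).1 rfl
      have h1 := eq_one_of_centralizes_cores hO
        (x := φ.rangeRestrict x) (k := j + 1) (by rw [← map_pow, hx, map_one]) hall
      refine hxC (mem_centralizer_iff.2 fun e he => ?_)
      have := congrArg Subtype.val (DFunLike.congr_fun (congrArg Subtype.val h1) (⟨e, he⟩ : E))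
      change x * e * x⁻¹ = e at this
      nth_rewrite 1 [← this]
      group
    haveI := Fact.mk hr
    obtain ⟨f₁, rfl⟩ := φ.rangeRestrict_surjective t
    set c := f₁⁻¹ * x * f₁ * x⁻¹ with hc
    have hcR : φ.rangeRestrict c ∈ Cfsg.pCore r φ.range := by
      rw [hc, show f₁⁻¹ * x * f₁ * x⁻¹ = f₁⁻¹ * (x * f₁ * x⁻¹) by group, map_mul, map_inv, map_mul,
        map_mul, map_inv]
      exact mul_mem (inv_mem ht) ((inferInstance : (Cfsg.pCore r φ.range).Normal).conj_mem _ ht _)
    have hc1 : φ.rangeRestrict c ≠ 1 := by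
      intro e
      rw [hc, map_mul, map_mul, map_mul, map_inv, map_inv, mul_inv_eq_one] at e
      refine hne ?_
      nth_rewrite 1 [← e]
      group
    obtain ⟨i, hi⟩ := exists_odd_pow c
    set k := c ^ 2 ^ i with hk
    have hk1 : φ.rangeRestrict k ≠ 1 := by
      rw [hk, map_pow]
      exact pow_two_pow_ne_one hc1 (odd_of_isPGroup (h.cores hcR hc1).1 (isPGroup_pCore r) hcR) i
    have hkfix : ∀ e ∈ E, k * e * k⁻¹ = e → e = 1 := fun e he hh =>
      congrArg Subtype.val ((h.cores (r := r) (a := φ.rangeRestrict k)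
        (by rw [hk, map_pow]; exact pow_mem hcR _) hk1).2 ⟨e, he⟩ (Subtype.ext hh))
    let f := QuotientGroup.mk' F
    have hX : f x * f x = 1 := by rw [← map_mul]; exact (QuotientGroup.eq_one_iff _).2 hx2
    have hXi : (f x)⁻¹ = f x := inv_eq_of_mul_eq_one_right hX
    have hinv : f x * f c * (f x)⁻¹ = (f c)⁻¹ := by
      rw [hc, map_mul, map_mul, map_mul, map_inv, map_inv]
      exact conj_inverts hX (f f₁)
    have hkinv : f (x * k * x⁻¹) = (f k)⁻¹ := by
      rw [map_mul, map_mul, map_inv, hk, map_pow, ← conj_pow, hinv, inv_pow]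
    have hxk : x * k * x⁻¹ ∈ zpowers k ⊔ F := by
      have : k * (x * k * x⁻¹) ∈ F := by
        rw [← QuotientGroup.eq_one_iff]
        show f (k * (x * k * x⁻¹)) = 1
        rw [map_mul, hkinv, mul_inv_cancel]
      rw [show x * k * x⁻¹ = k⁻¹ * (k * (x * k * x⁻¹)) by group]
      exact mul_mem (mem_sup_left (inv_mem (mem_zpowers k))) (mem_sup_right this)
    have hcop : (Nat.card (zpowers k)).Coprime (Nat.card F) := by
      obtain ⟨n, hn⟩ := IsPGroup.iff_card.1 (isPGroup_pCore (G := G) 2)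
      rw [Nat.card_zpowers, hn]
      exact (Nat.coprime_two_right.2 hi).pow_right n
    have hB : MulAut.conj x • zpowers k ≤ zpowers k ⊔ F := by
      intro y hy
      rw [mem_conj_smul] at hy
      obtain ⟨n, hn⟩ := mem_zpowers_iff.1 hy
      have : y = (x * k * x⁻¹) ^ n := by rw [conj_zpow, hn]; group
      rw [this]
      exact zpow_mem hxk n
    obtain ⟨f₀, hf₀, he⟩ := conj_rel (K := F) (by rw [normalizer_eq_top]; exact le_top) hcop
      (Or.inl inferInstance) hB (card_conj_smul _ _)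
    set x' := f₀⁻¹ * x with hx'
    have hfx' : f x' = f x := by
      rw [hx', map_mul, map_inv, show f f₀ = 1 from (QuotientGroup.eq_one_iff _).2 hf₀, inv_one,
        one_mul]
    have hA : MulAut.conj x' • zpowers k = zpowers k := by
      rw [hx', conj_smul_mul, ← he, ← conj_smul_mul, inv_mul_cancel, map_one, one_smul]
    have hx'k : x' * k * x'⁻¹ = k⁻¹ := by
      have h1 : x' * k * x'⁻¹ ∈ zpowers k := by
        rw [← hA, mem_conj_smul]
        simp [mul_assoc]
      have h2 : k * (x' * k * x'⁻¹) ∈ F := by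
        rw [← QuotientGroup.eq_one_iff]
        show f (k * (x' * k * x'⁻¹)) = 1
        rw [map_mul, map_mul, map_mul, map_inv, hfx', ← map_inv, ← map_mul, ← map_mul, hkinv,
          mul_inv_cancel]
      have h3 : k * (x' * k * x'⁻¹) = 1 := mem_bot.1 (inf_eq_bot_of_coprime hcop ▸
        (⟨mul_mem (mem_zpowers k) h1, h2⟩ : k * (x' * k * x'⁻¹) ∈ zpowers k ⊓ F))
      exact (inv_eq_of_mul_eq_one_right h3).symm
    have hx'2 : x' * x' ∈ F := by
      rw [← QuotientGroup.eq_one_iff]
      show f (x' * x') = 1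
      rw [map_mul, hfx', hX]
    have hfix2 : k * (x' * x') * k⁻¹ = x' * x' := by
      have h4 : (x' * x') * k * (x' * x')⁻¹ = k := by
        rw [show (x' * x') * k * (x' * x')⁻¹ = x' * (x' * k * x'⁻¹) * x'⁻¹ by group, hx'k,
          ← conj_inv, hx'k, inv_inv]
      nth_rewrite 1 [← h4]
      group
    obtain ⟨n, hn⟩ := mem_core_pow hx'2
    have hx'E : x' ∈ E := (h.mem_iff _).2 (h.no_fixed hkfix hn hfix2)
    refine hxF ?_
    have := mul_mem hf₀ (h.le_core hx'E)
    rwa [hx', mul_inv_cancel_left] at this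

end Quot

end CfsgLib.OneClass
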